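import Cfsg.Agent.Lib.CosetEnum.Defs

/-! Generated table data. -/

set_option autoImplicit false
set_option maxRecDepth 20000

namespace Cfsg.Lib.CosetEnum.Y5Chain5

/-- Table data. -/
def tabC_0_0 : Tab :=
  (.node 8 (.node 4 (.node 2 (.node 1 (.leaf 0x4000000000000000a) (.leaf 0x4000000000000000b)) (.node 1 (.leaf 0x4000000000000000c) (.leaf 0x100000c000040000080000200000800007))) (.node 2 (.node 1 (.leaf 0x1000000000000000200000200000000008) (.leaf 0x1000000000000000240000200000000009)) (.node 1 (.leaf 0x10000080000100002c000020000040000200000400004) (.leaf 0x100000c00001000030000030000040000200000400005)))) (.node 4 (.node 2 (.node 1 (.leaf 0x10000140000a0000140000a0000380000300001000004) (.leaf 0x10000180000600003c0000200001800008)) (.node 1 (.leaf 0x100001400004000014000040000340000300000c00005) (.leaf 0x1000018000060000440000200001800009))) (.node 2 (.node 1 (.leaf 0x1000004000000000040000000001c0000300000000006) (.leaf 0x1000008000130000080000100000800008)) (.node 1 (.leaf 0x100000c0001300000c0000100000800009) (.node 1 (.leaf 0x1000028000150000280000100001000008) (.leaf 0x100001800005000058000060000140000200001400006))))))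

/-- Table data. -/
def tabC_0 : Tab :=
  tabC_0_0

end Cfsg.Lib.CosetEnum.Y5Chain5
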