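import Cfsg.Agent.Lib.CosetEnum.Defs

/-! Generated table data. -/

set_option autoImplicit false
set_option maxRecDepth 20000

namespace Cfsg.Lib.CosetEnum.Y5Chain5

/-- Table data. -/
def tabZ_0_0 : Tab :=
  (.node 1 (.leaf 0x400000000000000000000000000000000000000000000000000000000000000000000000000000000000000000a00000000000000000500000000000000000000000000000000001500000000000000000000000000000000000000000000000000000300000000000000000000000000000000000000000000000000000000000000000000000000000000000000000a00000000000000000e00000000000000000000000000000000001400000000000000000000000000000000000000000000000000000400000000000000000000000000000000000000000000000000000000000000000000000000000000000000000200000000000000000d00000000000000000000000000000000001300000000000000000000000000000000000000000000000000000300000000000000000000000000000000000000000000000000000000000000000000000000000000000000000200000000000000000100000000000000000000000000000000000000000000000000000000000000000000000000000000000000000c00000000000000000000000000000000000000000000000000000000000000000000000000000000000000000b000000000000000001000000000000000000000000000000000000000000000000000000000000000000000000000000000000000009000000000000000000000000000000000000000000000000000000000000000000000000000000000000000008000000000000000007) (.leaf 0x600000000000000000000000000000000000000000000000000001200000000000000000000000000000000000000000000000000000000000000000000000000000000000000001000000000000000001700000000000000000000000000000000000600000000000000000000000000000000000000000000000000001100000000000000000000000000000000000000000000000000000000000000000000000000000000000000000f000000000000000005000000000000000000000000000000000016))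

/-- Table data. -/
def tabZ_0 : Tab :=
  tabZ_0_0

end Cfsg.Lib.CosetEnum.Y5Chain5
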