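import Cfsg.Agent.Lib.CosetEnum.Y5Chain5.TabF_Data0
import Cfsg.Agent.Lib.CosetEnum.Y5Chain5.TabC_Data0
import Cfsg.Agent.Lib.CosetEnum.Y5Chain5.TabZ_Data0
import Cfsg.Agent.Lib.CosetEnum.Y5Chain5.TabP_Data0

/-! Generated certificate. -/

set_option autoImplicit false
set_option maxRecDepth 20000

namespace Cfsg.Lib.CosetEnum.Y5Chain5

/-- Table. -/
def tabF : Tab :=
  tabF_0

/-- Table. -/
def tabC : Tab :=
  tabC_0

/-- Table. -/
def tabZ : Tab :=
  tabZ_0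

/-- Table. -/
def tabP : Tab :=
  tabP_0

/-- The shifts in use. -/
def relWords : List (List Nat) :=
  [[0, 0],
    [1, 1],
    [6, 6],
    [9, 9],
    [0, 1, 0, 1, 0, 1],
    [0, 6, 0, 6, 0, 6],
    [0, 9, 0, 9, 0, 9],
    [1, 6, 1, 6],
    [1, 9, 1, 9],
    [6, 9, 6, 9]]

/-- Subgroup words. -/
def subWords : List (List Nat) :=
  [[0],
    [1],
    [6]]

/-- The certificate. -/
def step : StepCert :=
  ⟨relWords, subWords, [0, 1, 6, 9], tabF, tabC, tabZ, tabP, 7, 17, 8, 11⟩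

end Cfsg.Lib.CosetEnum.Y5Chain5
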