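import Cfsg.Agent.Lib.CosetEnum.Defs

/-! Generated table data. -/

set_option autoImplicit false
set_option maxRecDepth 20000

namespace Cfsg.Lib.CosetEnum.Y5Chain5

/-- Table data. -/
def tabF_0_0 : Tab :=
  (.leaf 0x380000e00000000000280000a90000000000200000890000000000180000690000000000100000490000000000380000e60000000000300000c60000000000380000e10000000000300000c10000000000200000800000000000180000600000000000080000260000000000080000210000000000280000810000000000000000060000000000000000010000000000000000000000000000300000e90000000000280000c00000000000180000a6000000000010000086000000000010000061000000000008000040000000000000000029)

/-- Table data. -/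
def tabF_0 : Tab :=
  tabF_0_0

end Cfsg.Lib.CosetEnum.Y5Chain5
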